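import Cfsg.Agent.ODD.Exc.G23A
import Cfsg.Agent.OddHalf.D6.QThree.G23Out
import Cfsg.Agent.S4278
import Cfsg.Agent.Prune
set_option linter.all false
prune_inst 0x7f00000000000000000000000000000000000000000000000000000000000000000000000000000000000000000000000000000000000000000000000000000000000000000000000000000000000000003fffffffffffffffffffffffffffbeffbdffffffff
open scoped Cfsg.Agent.FastGrp

/-!
# ODD-EXC: all characters of `G₂(3)` are `2`-rational (helper87)
-/

set_option autoImplicit false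
set_option maxRecDepth 100000

namespace Cfsg.Agent.ODD.Exc

open Cfsg Cfsg.Lie Cfsg.Agent.ODD.Alt Cfsg.Agent.LargeExtra.W2 Cfsg.Agent.LargeExtra.W2.PlusHom
open Cfsg.Agent.LargeExtra.Model Cfsg.Agent.GTwoThree.Cent

theorem allR_case9c {G : Type*} [Group G] [Finite G] {Q : Subgroup G} {z i j k l x₁ x₂ y : G}
    (h : Case9c Q z i j k l x₁ x₂ y) (hy : y * y = 1) (hz : ∀ t : G, t ≠ 1 → t * t = 1 → IsConj t z) : AllR G := by
  have h1 : toG h (kq zz) = z := by rw [toG_kq]; exact hom_zz _
  refine Mod.allR (mul := mul false) (beq := beqK) (one := k1) (z := kq zz) (C := qG) (ev := toG h)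
    ⟨OddHalf.D6.QThree.G23Abs.mulG h hy, toG_k1 h, fun a b => ?_, fun g hg => ?_⟩ chkG (by rw [h1]; exact hz)
  · rw [toG_inj h, beqK, decide_eq_true_iff]
  · rw [h1] at hg
    exact exists_code h hg

/-- **`G₂(3)`** -/
theorem allR_g23 {F : Type*} [Field F] [Fintype F] (hF : Fintype.card F = 3) : AllR ↥(chevG2.group F) := by
  have h3 : Fintype.card (ZMod 3) = Fintype.card F := by rw [hF]; rfl
  refine AllR.congr (G := ↥(chevG2.group (ZMod 3)))
    (ChevalleyStructure.FieldIso.groupEquiv chevG2 (FiniteField.ringEquivOfCardEq h3)).symm ?_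
  have W := OddHalf.D6.QThree.G23Facts.words
  have h := OddHalf.D6.QThree.G23Facts.case9c W
  have ho : ∀ t : ↥(chevG2.group (ZMod 3)), t ≠ 1 → t * t = 1 → orderOf t = 2 := fun t h1 h2 =>
    orderOf_eq_prime (by rw [pow_two, h2]) h1
  refine allR_case9c h ?_ fun t h1 h2 => S4278.result (by decide) _ _ (ho t h1 h2) (ho _ h.large.z_ne h.large.z_sq)
  have h4 := W.h21 OddHalf.D6.QThree.G23Words.yy
  rwa [W.nil] at h4

end Cfsg.Agent.ODD.Exc

private theorem dce_8f765a0b3296 : _root_.True := by
  try have : _root_.True := by simp only [_root_.Cfsg.Agent.ODD.Exc.beqK.eq_1]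
  exact _root_.True.intro
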