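import Cfsg.Agent.ODD.Exc.U43
import Cfsg.Agent.GTwoThree.Sub
import Cfsg.Agent.Prune
set_option linter.all false
prune_inst 0x7f00000000000000000000000000000000000000000000000000000000000000000000000000000000000000000000000000000000000000000000000000000000000000000000000000000000000000003fffffffffffffffffffffffffffbeffbdffffffff
open scoped Cfsg.Agent.FastGrp

/-!
# ODD-EXC: `G₂(3)`, the check in the subgroup of index two of `C(z)` (helper87)
-/

set_option autoImplicit false
set_option maxRecDepth 100000

namespace Cfsg.Agent.ODD.Exc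

open Cfsg Cfsg.Lie Cfsg.Agent.ODD.Alt Cfsg.Agent.LargeExtra.W2 Cfsg.Agent.LargeExtra.W2.PlusHom
open Cfsg.Agent.LargeExtra.Model Cfsg.Agent.GTwoThree.Cent

/-- equality of codes -/
def beqK (a b : K) : Bool := decide (a = b)

/-- some elements of `Q` -/
def qG : List K := [kq mi, kq mj, kq mk, kq ml, kq (mi * mj), kq (mk * ml), kq (mi * mk), kq (mi * ml), kq (mj * mk),
  kq (mj * ml), kq (mi * mj * mk), kq (mi * mj * ml), kq (mi * (mk * ml)), kq (mj * (mk * ml)), kq (mi * mj * (mk * ml))]

private def encM (m : M) : ℕ := m.v.1 + 16 * m.s.toNat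

private def hK (a b : Fin 3) (e : Fin 2) : ℕ := a.1 + 3 * b.1 + 9 * e.1

private def enc (u : K) : ℕ := encM u.1 + 32 * hK u.2.1 u.2.2.1 u.2.2.2

private def tabB : ℕ := nat_lit 0xd6f28f7facb5ea410c3052d3873dbc31cb494e20ceb68efbecadae4088704a9786b9fc298f48ca60de748ff7ccbd6c4184505a5587b5dc394d49c640b5ea4d6f28f7fac10c3031cb452d3873dbc94e20adae4ceb68efbec08870298f44a9786b9fc8ca60bd6c4de748ff7cc18450394d45a5587b5dc9c640f7facb5ea4d6f2810c3073dbc31cb452d3894e20efbecadae4ceb68088706b9fc298f44a9788ca60ff7ccbd6c4de748184507b5dc394d45a5589c640d6778b56f4f77fc9467052568314e4735ec10460cef58aded4effdc8ce504ad4829cc46bdcc08c40deb38bdab4ffbbc9ca305a928398a47b9ac18820b56f4f77fcd677894670314e4735ec5256810460aded4effdccef588ce5029cc46bdcc4ad4808c40bdab4ffbbcdeb389ca30398a47b9ac5a92818820f77fcd6778b56f494670735ec52568314e410460effdccef58aded48ce506bdcc4ad4829cc408c40ffbbcdeb38bdab49ca307b9ac5a928398a418820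

private def tabC : ℕ := nat_lit 0x8020060100280600e0200480a0160300680e01e0400880200000402803008020030070160240500e0180340880f02000401000008014018070100180500b0120340700c0200440780600e0200000100400c0200501e0400880901402c0600d01c02003007004000008050060100880f02002c0480a01c0300680701001800802000010028030200440780a0160240680e01800c0200500c01c040000020080600d01c03c08011012028058050060100400600e0080000101c0300681101e040058090140100280300e020030010040000680e0180400880f01402c0480d018038050090160400781100800c02801000008038060100300700d01202c0500f022040018050080000100100c0200380e01a0300580a0120440800f00a010018020020000400700c0280480b02003c0880d0180380080000401c0300800800c02809016028078110200300700d0000080080601001c0180500802c050090220400780e01a030010010000200380600a0100181001e0440680c01c0280480b00e018040040060140080000403c08810018038068090160280300800e00c028040000080081102003c0700d01802c0500901001c0300500800c010010000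

private theorem encM_lt (m : M) : encM m < 32 := by
  have h1 : m.v.1 < 16 := m.v.2
  have h2 := m.s.toNat_le
  show m.v.1 + 16 * m.s.toNat < 32
  omega

private theorem enc_mul (u v : K) : enc (mul false u v) = mulN tabB tabC 18 (enc u) (enc v) := by
  have h1 : ∀ p q : M, lk5 tabQ (32 * encM p + encM q) = encM (p * q) := by decide +kernel
  have h2 : ∀ (a b : Fin 3) (e : Fin 2) (q : M), lk5 tabB (32 * hK a b e + encM q) = encM (act a b e q) := by decide +kernel
  have h3 : ∀ (a b : Fin 3) (e : Fin 2) (a' b' : Fin 3) (e' : Fin 2),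
      lkb tabC (18 * hK a b e + hK a' b' e') = 32 * hK (a + sg e a') (b + sg e b') (e + e') := by decide +kernel
  refine Eq.trans ?_ (mulN_eq tabB tabC 18 _ _ (encM_lt u.1) (encM_lt v.1)).symm
  rw [h2, h1, h3, xor_code _ (encM_lt _), ← mul_one (u.1 * _)]
  rfl

private theorem enc_beq (u v : K) : beqK u v = Nat.beq (enc u) (enc v) := by
  rw [Bool.eq_iff_iff, Nat.beq_eq]
  refine decide_eq_true_iff.trans ⟨congrArg _, fun h => ?_⟩
  obtain ⟨⟨x, s⟩, a, b, e⟩ := u
  obtain ⟨⟨x', s'⟩, a', b', e'⟩ := v
  have h1 : x.1 < 16 := x.2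
  have h2 : x'.1 < 16 := x'.2
  have h3 := s.toNat_le
  have h4 := s'.toNat_le
  have h5 : ∀ s s' : Bool, s.toNat = s'.toNat → s = s' := by decide
  change x.1 + 16 * s.toNat + 32 * (a.1 + 3 * b.1 + 9 * e.1) = x'.1 + 16 * s'.toNat + 32 * (a'.1 + 3 * b'.1 + 9 * e'.1) at h
  rw [show x = x' from Fin.ext (by omega), h5 s s' (by omega), show a = a' from Fin.ext (by omega),
    show b = b' from Fin.ext (by omega), show e = e' from Fin.ext (by omega)]

theorem chkG (t : K) : tst (mul false) beqK k1 (kq zz) qG t = true := by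
  have h : ((List.range 576).all (tst (mulN tabB tabC 18) Nat.beq 0 16
    [1, 2, 4, 8, 3, 12, 5, 9, 6, 10, 7, 11, 13, 14, 15])) = true := by decide +kernel
  have h1 : qG.map enc = [1, 2, 4, 8, 3, 12, 5, 9, 6, 10, 7, 11, 13, 14, 15] := by decide +kernel
  have h2 := encM_lt t.1
  rw [tst_map enc enc_mul enc_beq, h1]
  exact List.all_eq_true.1 h (enc t) (List.mem_range.2
    (show encM t.1 + 32 * (t.2.1.1 + 3 * t.2.2.1.1 + 9 * t.2.2.2.1) < 576 by omega))

end Cfsg.Agent.ODD.Exc
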